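import Cfsg.Agent.PQ.Sm.Par
import Cfsg.Agent.PQ.Red.Defs
import Cfsg.Agent.LV.Blk.Sit

/-!
# PQ, two primes and one torus (helper90)

* `sq_le` : the Parseval bound for the torus of type `w`;
* `tot_ne`, `tot_dvd` : the sum of all multiplicities at one torus;
* `exists_two` : commuting Sylow subgroups normalise a common torus;
* `hz_small` : the forward direction for small relative Weyl groups; `hz_down2`, `com_equiv`.
-/

set_option autoImplicit false
set_option linter.unusedSectionVars false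

namespace Cfsg.Agent.PQ.Sm

open Cfsg Cfsg.Agent.DL Cfsg.Agent.DL.PP Cfsg.Agent.DL.Uni Cfsg.Agent.DL.Asm Cfsg.Agent.Nodes.Reps Matrix
  Cfsg.Agent.Characters.Core Cfsg.Agent.Blocks.Local Cfsg.Agent.Blocks Cfsg.Agent.KZ Cfsg.Agent.KZ.Lie Cfsg.Agent.LV
  Cfsg.Agent.LV.Blk

theorem com_equiv {l q : ℕ} (hl : l.Prime) (hq : q.Prime) {A B : Type*} [Group A] [Finite A] [Group B] (e : A ≃* B)
    (h : Com l q A) : Com l q B := by
  have := Fact.mk hl
  have := Fact.mk hq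
  have : Finite B := Finite.of_equiv _ e.toEquiv
  obtain ⟨P, Q, h⟩ := h
  refine ⟨P.mapSurjective (f := e.toMonoidHom) e.surjective, Q.mapSurjective (f := e.toMonoidHom) e.surjective, ?_⟩
  rintro _ ⟨x, hx, rfl⟩ _ ⟨y, hy, rfl⟩
  rw [← map_mul, h x hx y hy, map_mul]

variable {p : ℕ} [Fact p.Prime] {k : Type} [Field k] [CharP k p] {Y : Type} [Group Y] {N : Type} [Fintype N]
  [DecidableEq N] {ρ : Y →* GL N k} {F : MulAut Y} {G : Subgroup Y} [IsAlgClosed k] {D : Datum p ρ F G}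
  {M : Ideal AlgInt} {l q n : ℕ} {w : D.W} [Fintype ↥(GF F G)] {χ : IrrCharacter ↥(GF F G)}

theorem exists_idx (w : D.W) : ∃ n, Nat.card ↥(GF F G) = n * Nat.card ↥(Tw D w ⊓ GF F G) :=
  exists_eq_mul_left_of_dvd (Subgroup.card_dvd_of_le inf_le_right)

theorem not_dvd_idx (hl : l.Prime) (hS : SylT D l w) (hn : Nat.card ↥(GF F G) = n * Nat.card ↥(Tw D w ⊓ GF F G)) :
    ¬ l ∣ n := fun h => by
  have h0 : n ≠ 0 := left_ne_zero_of_mul (hn ▸ Nat.card_pos.ne')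
  rw [SylT, hn, card_Tw, Nat.factorization_mul h0 (ordT_ne w), Finsupp.add_apply] at hS
  have := (hl.dvd_iff_one_le_factorization h0).1 h
  omega

theorem res_ext (χ : ↥(GF F G) → ℂ) : res (GF F G) (extendByZero (GF F G) χ) = χ :=
  funext fun g => extendByZero_of_mem _ _ g.2

theorem rst_ne' (hM : IsPModular q M) (hS : SylT D q w) (hχ : χ ∈ principalBlock M ↥(GF F G)) :
    ∀ t ∈ Tw D w ⊓ GF F G, rst (GF F G) (R D) (Tw D w) (extendByZero (GF F G) χ) t ≠ 0 := fun _ ht =>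
  let ⟨_, hn⟩ := exists_idx w
  rst_ne (St.full D) (Tw_mem w) ((res_ext χ.1).symm ▸ χ.2) hn hM (by simpa only [res_ext] using hχ) (not_dvd_idx hM.1 hS hn) ht

/-- **The Parseval bound.** -/
theorem sq_le (hM : IsPModular q M) (hS : SylT D q w) (hχ : χ ∈ principalBlock M ↥(GF F G)) (hl : l.Prime) (hL : SylT D l w)
    {j : ℕ} (hd : l ^ j ∣ charDegree (χ : GF F G → ℂ)) : (l ^ j) ^ 2 ≤ Nat.card (CW D w) := by
  obtain ⟨n, hn⟩ := exists_idx (D := D) w
  have h1 := sq_le_of_ne (St.full D) (Tw_mem w) ((res_ext χ.1).symm ▸ χ.2) hn (rst_ne' hM hS hχ)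
    ((hl.coprime_iff_not_dvd.2 (not_dvd_idx hl hL hn)).pow_left j) (pow_pos hl.pos j).ne' (by rwa [res_ext])
  rw [card_Tw, Nat.card_congr (Equiv.subtypeEquivRight fun _ => mem_Nz.symm), show Nat.card {h // h ∈ Nz F G (Tw D w)} = _ from
    card_Nz (yw_mem D w) (yw_rp D w), mul_comm] at h1
  exact Nat.le_of_mul_le_mul_left h1 (Nat.pos_of_ne_zero (ordT_ne w))

section

variable (f : Fr D) [Fintype (FS D w)]

theorem tot_eq (χ : ↥(GF F G) → ℂ) :
    ∑ c : FS D w, classInner χ (RW f w c) = rst (GF F G) (R D) (Tw D w) (extendByZero (GF F G) χ) 1 := by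
  have h1 : ∀ t ∈ Tw D w ⊓ GF F G, (∑ c : FS D w, th f w c) t = ((ordT D w : ℂ) • dl (1 : Y)) t := fun t ht => by
    rw [Finset.sum_apply, Pi.smul_apply, smul_eq_mul]
    by_cases e : t = 1
    · rw [e, dl_self, mul_one, Finset.sum_congr rfl fun (c : FS D w) _ => (th_spec f c.2).1.one, Finset.sum_const, Finset.card_univ,
        ← Nat.card_eq_fintype_card, card_FS, nsmul_one]
    · obtain ⟨c, hc, h2⟩ := exists_th_ne f ht e
      rw [dl_ne e, mul_zero]
      exact sum_hom_units_eq_zero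
        ({ toFun := fun c => th f w c t
           map_one' := th_one w t ht
           map_mul' := fun a b => th_mul a.2 b.2 t ht } : FS D w →* ℂ) fun e => h2 (DFunLike.congr_fun e ⟨c, hc⟩)
  have h2 := ip_congr (f := extendByZero (GF F G) χ) (fun _ _ => rfl) ((sys' D).R_congr (Tw_mem w) h1)
  rw [map_sum, map_smul, ip_sum_right, ip_smul_right, map_natCast] at h2
  rw [rst, card_Tw, ← h2]
  exact Finset.sum_congr rfl fun c _ => by rw [ip_eq_classInner, res_ext, RW]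

/-- the sum of all multiplicities at a Sylow torus does not vanish on the principal block -/
theorem tot_ne (hM : IsPModular q M) (hS : SylT D q w) (hχ : χ ∈ principalBlock M ↥(GF F G)) :
    ∑ c : FS D w, classInner (χ : GF F G → ℂ) (RW f w c) ≠ 0 :=
  tot_eq (w := w) f χ.1 ▸ rst_ne' hM hS hχ 1 (one_mem _)

/-- the sum of all multiplicities at a Sylow torus is divisible by the `l`-part of the degree -/
theorem tot_dvd (hl : l.Prime) (hL : SylT D l w) {j : ℕ} (hd : l ^ j ∣ charDegree (χ : GF F G → ℂ)) {m : ℤ}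
    (hm : ∑ c : FS D w, classInner (χ : GF F G → ℂ) (RW f w c) = m) : (l : ℤ) ^ j ∣ m := by
  obtain ⟨n, hn⟩ := exists_idx (D := D) w
  have h1 := rst_dvd (St.full D) (Tw_mem w) ((res_ext χ.1).symm ▸ χ.2) hn
    ((hl.coprime_iff_not_dvd.2 (not_dvd_idx hl hL hn)).pow_left j) (pow_pos hl.pos j).ne' (by rwa [res_ext]) (one_mem _)
  rw [← tot_eq f, hm, show (m : ℂ) / (l ^ j : ℕ) = algebraMap ℚ ℂ (m / (l ^ j : ℕ)) by simp,
    isIntegral_algebraMap_iff (algebraMap ℚ ℂ).injective, IsIntegrallyClosed.isIntegral_iff] at h1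
  obtain ⟨a, ha⟩ := h1
  rw [eq_div_iff (Nat.cast_ne_zero.2 (pow_pos hl.pos j).ne'), eq_intCast] at ha
  exact ⟨a, by rw [mul_comm]; exact_mod_cast ha.symm⟩

end

theorem exists_tor (hl : l.Prime) (hS : SylT D l w) (P : Sylow l ↥(GF F G)) :
    ∃ T ∈ tori D, ∀ x ∈ (P : Subgroup ↥(GF F G)), (x : Y) ∈ T := by
  have := Fact.mk hl
  obtain ⟨K, hK⟩ := Sylow.exists_subgroup_card_pow_prime (G := (Tw D w).subgroupOf (GF F G)) l
    (n := (Nat.card ↥(GF F G)).factorization l) (by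
      rw [← Subgroup.inf_subgroupOf_right, Nat.card_congr (Subgroup.subgroupOfEquivOfLe inf_le_right).toEquiv, card_Tw, hS]
      exact Nat.ordProj_dvd _ _)
  obtain ⟨g, rfl⟩ := MulAction.exists_smul_eq ↥(GF F G) (Sylow.ofCard (K.map (Subgroup.subtype _))
    ((Subgroup.card_map_of_injective Subtype.val_injective).trans hK)) P
  refine ⟨_, (sys' D).conjA _ g.2 _ (Tw_mem w), ?_⟩
  rintro _ ⟨_, ⟨x, -, rfl⟩, rfl⟩
  exact conj_mem_cj.2 x.2

/-- **Commuting Sylow subgroups normalise a common torus.** -/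
theorem exists_two (hl : l.Prime) (hq : q.Prime) (hp : q ≠ p) (h : Com l q ↥(GF F G)) (hS : SylT D l w) :
    ∃ w, SylT D l w ∧ CardL D q w := by
  have := Fact.mk hl
  have := Fact.mk hq
  obtain ⟨P, Q, h⟩ := h
  obtain ⟨T₀, h0, h1⟩ := exists_tor hl hS P
  obtain ⟨y₀, hy₀, w₀, hw₀, rfl⟩ := exists_y h0
  have hZ : Subtype.val '' (P : Set ↥(GF F G)) ⊆ (D.conj hy₀ ⟨w₀, hw₀⟩).T := by
    rintro _ ⟨x, hx, rfl⟩
    exact h1 x hx
  have hF := fun a => (D.conj hy₀ ⟨w₀, hw₀⟩).g_mem_Sz hZ (a := a) (by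
    rintro _ ⟨x, hx, rfl⟩
    exact ⟨x, hx, x.2.2.symm⟩)
  obtain ⟨St, hSt⟩ := DL.St.stD ((D.conj hy₀ ⟨w₀, hw₀⟩).sub hZ hF rfl)
  have e : ∀ {T}, T ∈ (sys' ((D.conj hy₀ ⟨w₀, hw₀⟩).sub hZ hF rfl)).tori ↔ T ∈ tori D ∧ Subtype.val '' (P : Set ↥(GF F G)) ⊆ T := by
    intro T
    rw [Sys.mem_tori, Datum.tori_sub, D.tori_conj hy₀ ⟨w₀, hw₀⟩]
    rfl
  let A : MulAction (Q : Subgroup (GF F G)) (sys' ((D.conj hy₀ ⟨w₀, hw₀⟩).sub hZ hF rfl)).tori :=
    { smul := fun u T => ⟨cj ((u : GF F G) : Y) T, e.2 ⟨(sys' D).conjA _ u.1.2 _ (e.1 T.2).1, by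
        rintro _ ⟨x, hx, rfl⟩
        have h2 : (x : Y) * (u : GF F G) = (u : GF F G) * x := congrArg Subtype.val (h x hx u u.2)
        exact mem_cj.2 (by rw [mul_assoc, h2, inv_mul_cancel_left]; exact (e.1 T.2).2 ⟨x, hx, rfl⟩)⟩⟩
      one_smul := fun T => Subtype.ext (cj_one _)
      mul_smul := fun u v T => Subtype.ext (cj_mul _ _ _) }
  obtain ⟨T, hT⟩ := Q.2.nonempty_fixed_point_of_prime_not_dvd_card (sys' ((D.conj hy₀ ⟨w₀, hw₀⟩).sub hZ hF rfl)).tori (by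
    rw [Nat.card_eq_finsetCard, hSt.card_tori (sys' _), pc]
    exact fun h => hp ((Nat.prime_dvd_prime_iff_eq hq Fact.out).1 (hq.dvd_of_dvd_pow (hq.dvd_of_dvd_pow h))))
  obtain ⟨y, hy, w, hw, e1⟩ := exists_y (e.1 T.2).1
  refine ⟨w, le_antisymm ?_ (fact_T_le l w), le_antisymm ?_ (fact_N_le q w)⟩
  · have h2 := Subgroup.card_dvd_of_le (show (P : Subgroup (GF F G)) ≤ (cj y D.T).subgroupOf (GF F G) from fun u hu =>
      e1 ▸ (e.1 T.2).2 ⟨u, hu, rfl⟩)
    rwa [P.card_eq_multiplicity, ← Subgroup.inf_subgroupOf_right,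
      Nat.card_congr (Subgroup.subgroupOfEquivOfLe inf_le_right).toEquiv, D.card_cj_TF hy hw, ← ordT,
      hl.pow_dvd_iff_le_factorization (ordT_ne w)] at h2
  · have h2 := Subgroup.card_dvd_of_le (show (Q : Subgroup (GF F G)) ≤ Nz F G (cj y D.T) from fun u hu =>
      mem_Nz.2 (e1 ▸ congrArg Subtype.val (hT ⟨u, hu⟩)))
    rwa [Q.card_eq_multiplicity, hq.pow_dvd_iff_le_factorization Nat.card_pos.ne', card_Nz hy hw] at h2

/-- primes which do not divide the order of the Weyl group -/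
theorem exists_sylT2 (hl : l.Prime) (hq : q.Prime) (hlp : l ≠ p) (hqp : q ≠ p) (hlW : ¬ l ∣ Nat.card D.W)
    (hqW : ¬ q ∣ Nat.card D.W) (h : Com l q ↥(GF F G)) : ∃ w, SylT D l w ∧ SylT D q w :=
  let ⟨_, h1⟩ := exists_sylT D hl hlp hlW
  let ⟨w, h2, h3⟩ := exists_two hl hq hqp h h1
  ⟨w, h2, h3.sylT fun h => hqW (h.trans (Subgroup.card_subgroup_dvd_card _))⟩

/-- **small relative Weyl groups** -/
theorem hz_small (hM : IsPModular q M) (hl : l.Prime) (hL : SylT D l w) (hS : SylT D q w) (h : Nat.card (CW D w) < l ^ 2) :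
    HZ0 l M ↥(GF F G) := fun _ hχ hd =>
  h.not_ge (by simpa only [pow_one] using sq_le hM hS hχ hl hL (j := 1) (by rwa [pow_one]))

/-- the forward direction goes down to the simple group -/
theorem hz_down2 {Adm : Matrix D.R D.R ℤ → Prop} {S : Type} [Group S] (s : Sit D Adm S) (hM : IsPModular q M)
    (h : HZ0 l M ↥(GF F G)) : HZ0 l M S := fun _ hψ hd =>
  let ⟨χ, hχ, h1⟩ := exists_over s hM hψ
  h χ hχ (hd.trans (ov_deg s h1).1)

end Cfsg.Agent.PQ.Sm
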