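import Cfsg.Agent.KZ.G2.Dat
import Cfsg.Agent.KZ.TF.FltA

/-!
# PQ, `³D₄`: the relative Weyl groups have order at most `24` (helper90)
-/

set_option autoImplicit false
set_option linter.unusedSectionVars false

namespace Cfsg.Agent.PQ.Sm

open Cfsg Cfsg.Lie Cfsg.Agent.DL Cfsg.Agent.KZ.Lie Cfsg.Agent.KZ.DatX Cfsg.Agent.KZ.G2 Cfsg.Agent.KZ.TF.Flt Matrix

/-- evaluate a list of lists -/
noncomputable def fLL (l : List (List ℤ)) : (List (List ℤ) → Bool) → Bool :=
  List.rec (fun f => f []) (fun c _ ih f => fL c fun c => ih fun l => f (c :: l)) l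

theorem fLL_eq (l : List (List ℤ)) (f : List (List ℤ) → Bool) : fLL l f = f l := by
  induction l generalizing f with
  | nil => rfl
  | cons c l ih => exact (fL_eq c fun c => fLL l fun l => f (c :: l)).trans (ih _)

/-- a row vector and a column vector -/
def tr (a : FM) : List ℤ :=
  [a 0 0 + 32 * a 1 0 + 1024 * a 2 0 + 32768 * a 3 0, a 0 1 + 32 * a 1 1 + 1024 * a 2 1 + 32768 * a 3 1,
    a 0 2 + 32 * a 1 2 + 1024 * a 2 2 + 32768 * a 3 2, a 0 3 + 32 * a 1 3 + 1024 * a 2 3 + 32768 * a 3 3,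
    a 0 0 + a 0 1 + a 0 2 + a 0 3, a 1 0 + a 1 1 + a 1 2 + a 1 3, a 2 0 + a 2 1 + a 2 2 + a 2 3, a 3 0 + a 3 1 + a 3 2 + a 3 3]

/-- the test -/
def tst : List ℤ → List ℤ → Bool
  | [a0, a1, a2, a3, a4, a5, a6, a7], [b0, b1, b2, b3, b4, b5, b6, b7] =>
    b0 * a4 + b1 * a5 + b2 * a6 + b3 * a7 == a0 * b7 + a1 * b5 + a2 * b4 + a3 * b6
  | _, _ => true

theorem chkD : (fLL (lD.map fun a => tr (gt a)) fun T => T.all fun a => Nat.ble (T.countP (tst a)) 24) = true := by decide +kernel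

theorem tst_of {a b : FM} (h : toM 4 b * (toM 4 a * P4) = toM 4 a * P4 * toM 4 b) : tst (tr a) (tr b) = true := by
  have h1 := congrArg (fun A => ![1, 32, 1024, 32768] ⬝ᵥ A *ᵥ ![1, 1, 1, 1]) h
  rw [← toM_pD] at h1
  simp only [← mulVec_mulVec] at h1
  simp [mulVec, dotProduct, Fin.sum_univ_four, toM, pD, gt] at h1
  simp only [tst, tr, beq_iff_eq]
  linear_combination h1

theorem card_cw_D4 {p e : ℕ} [Fact p.Prime] {k : Type} [Field k] [CharP k p] [IsAlgClosed k] (X : XF hpD4 p k ((p : ℤ) ^ e • P4))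
    (w : X.D.W) : Nat.card (CW X.D w) ≤ 24 := by
  classical
  obtain ⟨ε, hε⟩ := ckD.exists_equiv X card_W_D4
  have := Finite.of_equiv _ ε.symm
  have h1 := (fLL_eq _ _).symm.trans chkD
  have h0 : lD.length = 192 := by decide +kernel
  have h2 : ∀ u, tr (eD (ε u)) ∈ lD.map fun a => tr (gt a) := fun u =>
    List.mem_map.2 ⟨_, by rw [List.getD_eq_getElem _ _ ((ε u).2.trans_eq h0.symm)]; exact List.getElem_mem _, rfl⟩
  refine le_trans ?_ (Nat.le_of_ble_eq_true (List.all_eq_true.1 h1 _ (h2 w)))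
  have h3 : (lD.map fun a => tr (gt a)) = (List.range 192).map fun n => tr (eD n) :=
    List.ext_getElem (by simp [h0]) fun n h _ => by simp [eD, List.getElem?_eq_getElem (by simpa using h)]
  rw [h3, List.countP_map, List.countP_eq_length_filter]
  refine le_trans (Nat.card_le_card_of_injective (β := {u // tst (tr (eD (ε w))) (tr (eD (ε u))) = true})
    (fun v => ⟨v.1, tst_of ?_⟩) fun a b e => Subtype.ext (Subtype.mk.inj e)) 
    ((Ck.card_eq ε (b := fun n => tst (tr (eD (ε w))) (tr (eD n)) = true) fun _ => Iff.rfl).trans ?_).le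
  swap
  · simp [Finset.card, Finset.filter, Finset.range, Multiset.range, Function.comp_def]
  have h4 : w * X.D.Fw v.1 = v.1 * w := v.2
  have h5 : X.D.Wm v.1 * (X.D.Wm w * X.D.Mx) = X.D.Wm w * X.D.Mx * X.D.Wm v.1 := by
    rw [← mul_assoc, ← X.D.Wm_mul, ← h4, X.D.Wm_mul, mul_assoc, mul_assoc, X.D.Mx_Wm]
  have h6 : toM 4 (eD (ε v.1)) * (toM 4 (eD (ε w)) * ((p : ℤ) ^ e • P4)) =
      toM 4 (eD (ε w)) * ((p : ℤ) ^ e • P4) * toM 4 (eD (ε v.1)) :=
    (show Ck.wm X v.1 = toM 4 (eD (ε v.1)) from hε _) ▸ (show Ck.wm X w = toM 4 (eD (ε w)) from hε _) ▸ h5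
  simp only [mul_smul_comm, smul_mul_assoc] at h6
  exact smul_right_injective _ (pow_ne_zero _ (Nat.cast_ne_zero.2 (Fact.out : p.Prime).ne_zero)) h6

end Cfsg.Agent.PQ.Sm
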