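import Cfsg.Agent.PQ.Sm.Gen
import Cfsg.Agent.PQ.Sm.D4
import Cfsg.Agent.LV.TF.Main
import Cfsg.Agent.LV.Red.Main
import Cfsg.Agent.DL.Tw.Suz
import Cfsg.Agent.DL.Tw.Ree
import Cfsg.Agent.H371.HT.Three

/-!
# PQ, the forward rows of `²B₂`, `²G₂`, `G₂`, `³D₄`, `²F₄` (helper90)

`fw_sz`, `fw_ree`, `fw_g2`, `fw_tw4`, `fw_tf4`.
-/

set_option autoImplicit false
set_option linter.unusedSectionVars false

namespace Cfsg.Agent.PQ.Sm

open Cfsg Cfsg.Lie Cfsg.Agent.DL Cfsg.Agent.DL.PP Cfsg.Agent.DL.Uni Cfsg.Agent.DL.Ex Cfsg.Agent.KZ.Lie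
  Cfsg.Agent.Characters.Core Matrix Cfsg.Agent.KZ.DatX Cfsg.Agent.KZ.McX Cfsg.Agent.KZ.TF.Mix Cfsg.Agent.KZ.TF Cfsg.Agent.KZ
  Cfsg.Agent.KZ.G2 Cfsg.Agent.LV Cfsg.Agent.LV.Blk Cfsg.Agent.LV.TF Cfsg.Agent.Blocks

theorem not_dvd_W {l : ℕ} (hl : l.Prime) (h2 : l ≠ 2) (h3 : l ≠ 3) (a b : ℕ) : ¬ l ∣ 2 ^ a * 3 ^ b := fun h =>
  (hl.dvd_mul.1 h).elim (fun h => h2 ((Nat.prime_dvd_prime_iff_eq hl Nat.prime_two).1 (hl.dvd_of_dvd_pow h)))
    fun h => h3 ((Nat.prime_dvd_prime_iff_eq hl Nat.prime_three).1 (hl.dvd_of_dvd_pow h))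

section

variable {p : ℕ} [Fact p.Prime] {k : Type} [Field k] [CharP k p] {Y : Type} [Group Y] {N : Type} [Fintype N]
  [DecidableEq N] {ρ : Y →* GL N k} {F : MulAut Y} {G : Subgroup Y} [IsAlgClosed k] (D : Datum p ρ F G)
  {M : Ideal AlgInt} {l q : ℕ} {S : Type} [Group S] [Finite S] (e : S ≃* ↥(GF F G))

include e

theorem fw_of (h : Pair l q S) (hp : l ≠ p ∧ q ≠ p) (hl : ¬ l ∣ Nat.card D.W) (hq : ¬ q ∣ Nat.card D.W)
    (H : ∀ [Fintype ↥(GF F G)] (w : D.W), SylT D l w → SylT D q w → HZ0 l M ↥(GF F G)) : HZ0 l M S := by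
  have := Finite.of_equiv _ e.toEquiv
  have := Fintype.ofFinite ↥(GF F G)
  obtain ⟨w, h1, h2⟩ := exists_sylT2 h.pp h.pq hp.1 hp.2 hl hq (com_equiv h.pp h.pq e h.com)
  exact (H w h1 h2).of_equiv e.symm

theorem fw_23 (hM : IsPModular q M) (h : Pair l q S) (hp : l ≠ p ∧ q ≠ p) (h3 : ¬ AbS 3 S ∨ p = 3) {a b : ℕ}
    (hW : Nat.card D.W = 2 ^ a * 3 ^ b) (H : ∀ w, Nat.card (CW D w) ≤ 24) : HZ0 l M S := by
  have h1 : l ≠ 3 := fun e => h3.elim (fun h3 => h3 (e ▸ h.abp)) fun h3 => hp.1 (e.trans h3.symm)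
  have h2 : q ≠ 3 := fun e => h3.elim (fun h3 => h3 (e ▸ h.abq)) fun h3 => hp.2 (e.trans h3.symm)
  exact fw_of D e h hp (hW ▸ not_dvd_W h.pp h.p2 h1 a b) (hW ▸ not_dvd_W h.pq h.q2 h2 a b) fun w h4 h5 =>
    hz_small hM h.pp h4 h5 ((H w).trans_lt (lt_of_lt_of_le (by norm_num)
      (Nat.pow_le_pow_left (h.pp.five_le_of_ne_two_of_ne_three h.p2 h1) 2)))

omit e in
theorem cw_le (w : D.W) : Nat.card (CW D w) ≤ Nat.card D.W := Subgroup.card_le_card_group _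

end

/-- **the row of `²B₂(q)`** -/
theorem fw_sz : All (fun S _ => IsoSuzuki S) Fw := fun _ _ _ _ _ ⟨K, _, _, m, _, hK, ⟨i⟩⟩ l q _ hM h => by
  obtain ⟨_, _, hk⟩ := Tw.setup' Nat.prime_two (Nat.succ_ne_zero _) hK
  have hW : Nat.card (Tw.datB2 hk m).W = 2 ^ 3 := card_W_B2
  have h1 : ∀ {l : ℕ}, l.Prime → l ≠ 2 → ¬ l ∣ Nat.card (Tw.datB2 hk m).W := fun hl h2 e =>
    h2 ((Nat.prime_dvd_prime_iff_eq hl Nat.prime_two).1 (hl.dvd_of_dvd_pow (hW ▸ e)))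
  exact fw_of (Tw.datB2 hk m) (i.trans (Tw.emb_B2 (algebraMap K _) hK).equiv) h ⟨h.p2, h.q2⟩ (h1 h.pp h.p2) (h1 h.pq h.q2)
    fun w h4 h5 => hz_small hM h.pp h4 h5 (((cw_le _ w).trans_eq hW).trans_lt (lt_of_lt_of_le (by norm_num)
      (Nat.pow_le_pow_left (show 3 ≤ l from h.pp.two_le.lt_of_ne h.p2.symm) 2)))

/-- **the row of `²G₂(q)`** -/
theorem fw_ree : All (fun S _ => IsoRee S) Fw := fun _ _ _ _ _ hS l q _ hM h => by
  have h0 := h.nc 3 Nat.prime_three (.inr (.inr (.inr (.inr (.inr (.inr (.inr (.inr (.inr (.inr ⟨rfl, hS⟩))))))))))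
  obtain ⟨K, _, _, m, _, hK, ⟨i⟩⟩ := hS
  have := Fact.mk Nat.prime_three
  obtain ⟨_, _, hk⟩ := Tw.setup' Nat.prime_three (Nat.succ_ne_zero _) hK
  have hW : Nat.card (Tw.datG2 hk m).W = 2 ^ 2 * 3 ^ 1 := card_W_G2
  exact fw_23 (Tw.datG2 hk m) (i.trans (Tw.emb_G2 (algebraMap K _) hK).equiv) hM h h0 (.inr rfl) hW fun w =>
    ((cw_le _ w).trans_eq hW).trans (by norm_num)

/-- **the row of `G₂(q)`** -/
theorem fw_g2 : All (fun S _ => IsoChevG2 S) Fw := fun _ _ _ _ _ ⟨K, _, _, h1, ⟨i⟩⟩ l q _ hM h => by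
  obtain ⟨p, e, _, _, _, he, hK, hk⟩ := exists_closure K
  have hW : Nat.card (xfS hpG2 p hk he).D.W = 2 ^ 2 * 3 ^ 1 := card_W_G2
  exact fw_23 (xfS hpG2 p hk he).D (i.trans (over_G2 (algebraMap K _) hK hpG2).equiv) hM h
    (h.nc p Fact.out (.inr (.inr (.inr (.inr (.inr (.inr (.inl ⟨K, _, _, ‹_›, .inl ⟨h1, ⟨i⟩⟩⟩))))))))
    ((em (p = 3)).symm.imp_left fun h3 hA => H371.HT.not_ab_untw (D := chevG2) (by simp) (fun h4 => h3
      ((Nat.prime_dvd_prime_iff_eq Nat.prime_three Fact.out).1 (Nat.prime_three.dvd_of_dvd_pow (hK ▸ h4))).symm) (hA.of_equiv i))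
    hW fun w => ((cw_le _ w).trans_eq hW).trans (by norm_num)

/-- **the row of `³D₄(q)`** -/
theorem fw_tw4 : All (fun S _ => Iso3D4 S) Fw := fun _ _ _ _ _ ⟨K, _, _, r, hr, hK, ⟨i⟩⟩ l q _ hM h => by
  obtain ⟨p, e, _, _, -, he, rfl, -⟩ := Tw.setup hr three_ne_zero hK
  obtain ⟨k, _, _, _, X, ⟨s⟩⟩ := (has_3D4 hK).congr i
  exact fw_23 X.D s.ov.equiv hM h
    (h.nc p Fact.out (.inr (.inr (.inr (.inr (.inr (.inr (.inr (.inl ⟨K, _, _, ‹_›, _, hr, .inr ⟨hK, ⟨i⟩⟩⟩)))))))))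
    ((em (p = 3)).symm.imp_left fun h3 hA => H371.HT.not_ab_twD4 hr hK (fun h4 => h3
      ((Nat.prime_dvd_prime_iff_eq Nat.prime_three Fact.out).1
        (Nat.prime_three.dvd_of_dvd_pow (Nat.prime_three.dvd_of_dvd_pow (hK ▸ h4)))).symm) (hA.of_equiv i))
    (a := 6) (b := 1) card_W_D4 (card_cw_D4 X)

/-! ### `²F₄(q)` -/

theorem dvd_oT {l r : ℤ} (hl : Prime l) {i : Fin 11} (h : l ∣ oT r i) : ∃ a, 0 < exT i a ∧ l ∣ fac r a := by
  obtain ⟨a, -, h⟩ := (hl.dvd_finsetProd_iff _).1 h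
  exact ⟨a, Nat.pos_of_ne_zero fun e => hl.not_dvd_one (by rwa [e, pow_zero] at h), hl.dvd_of_dvd_pow h⟩

theorem nd_oT {l : ℕ} (hl : l = 2 ∨ l = 3 ∨ l = 7) (r : ℤ) {i : Fin 11} (hi : i = 5 ∨ i = 6) : ¬ (l : ℤ) ∣ oT r i := fun h => by
  obtain ⟨a, h1, h2⟩ := dvd_oT (Nat.prime_iff_prime_int.1 (by rcases hl with rfl | rfl | rfl <;> norm_num)) h
  rw [← ZMod.intCast_zmod_eq_zero_iff_dvd] at h2
  rcases (by decide : ∀ i : Fin 11, ∀ a, i = 5 ∨ i = 6 → 0 < exT i a → a = 2 ∨ a = 3) i a hi h1 with rfl | rfl <;>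
    simp only [fac, cons_val] at h2 <;> push_cast at h2 <;> generalize (r : ZMod l) = s at h2 <;>
    rcases hl with rfl | rfl | rfl <;> revert s <;> decide

variable {m : ℕ} {k : Type} [Field k] [CharP k 2] [IsAlgClosed k] {X : XF hpF4 2 k ((2 : ℤ) ^ m • GamF)}
  {f : Fr X.D} [Fintype ↥(GF X.F ⊤)] (hA : Api f)

theorem eq_one_fx {i : Fin 11} (hi : i = 5 ∨ i = 6) {c : Lbl X.D} (h : Fx X.D (wT X i) c) {l : ℕ} (hl : l = 2 ∨ l = 3)
    (h1 : c ^ l = 1) : c = 1 :=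
  (pow_eq_one_iff_of_coprime ((Nat.Prime.coprime_iff_not_dvd (by rcases hl with rfl | rfl <;> norm_num)).2 fun e =>
    nd_oT (hl.imp_right .inl) _ hi (ord_wT X i ▸ Int.natCast_dvd_natCast.2 e))).1 ⟨h1, pow_ordT h⟩

include hA

theorem dvd_all (χ : IrrCharacter ↥(GF X.F ⊤)) {i : Fin 11} (hi : i = 5 ∨ i = 6) (S : Finset (Lbl X.D))
    (hS : ∀ c, c ∈ S ↔ c ≠ 1 ∧ Fx X.D (wT X i) c) : 24 ∣ ∑ c ∈ S, mu (RW f (wT X i) c) χ := by
  have h1 : ∀ v ∈ CW X.D (wT X i), ∀ c ∈ S, ∀ c', Rel X.D v c' c → c' ∈ S := fun v hv c hc c' e =>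
    (hS c').2 ⟨fun e' => ((hS c).1 hc).1 (eq_one_of_rel' (e' ▸ e)), fx_tc ((hS c).1 hc).2 (inv_mem hv) e.symm⟩
  have h8 : el X v8 ∈ CW X.D (wT X i) := by
    rcases hi with rfl | rfl
    exacts [(tc_B X).2 chk_v.1.1, (tc_B X).2 chk_v.1.2.1]
  have h3 : el X v3 ∈ CW X.D (wT X i) := by
    rcases hi with rfl | rfl
    exacts [(tc_B X).2 chk_v.1.2.2.1, (tc_B X).2 chk_v.1.2.2.2]
  have d8 := dvd_lab hA χ h8 Nat.prime_two (a := 2) (wm_inj X (by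
    rw [pow_succ 2, pow_mul, sq, wm_mul, wm_v8, TF.wm_one, neg_mul_neg, one_mul])) S (h1 _ h8) fun c hc e => by
      obtain ⟨h1, h2⟩ := (hS c).1 hc
      refine h1 (eq_one_fx hi h2 (.inl rfl) (eq_of_chr X.D fun (y : Fin 4 → ℤ) => ?_))
      have h10 := ch_rel e y
      rw [wm_v8, neg_mulVec, one_mulVec, ← neg_one_smul ℤ, ch_zsmul, _root_.zpow_neg_one, inv_eq_iff_mul_eq_one] at h10
      rw [map_pow, map_one, sq]
      exact h10
  have d3 := dvd_lab hA χ h3 Nat.prime_three (a := 0) (wm_inj X (by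
    rw [zero_add, pow_one, pow_three, wm_mul, wm_mul, TF.wm_one, ← sub_eq_zero, ← mul_zero (wm X (el X v3) - 1), ← wm_v3 (X := X)]
    noncomm_ring)) S (h1 _ h3) fun c hc e => by
      obtain ⟨h1, h2⟩ := (hS c).1 hc
      refine h1 (eq_one_fx hi h2 (.inr rfl) (cube_of_ch fun y => ?_))
      rw [pow_zero, pow_one] at e
      have h10 := congrArg (fun A => ch X (A *ᵥ y) c) (wm_v3 (X := X))
      simp only [add_mulVec, one_mulVec, zero_mulVec, ← mulVec_mulVec, ch_add, ch_rel e, ch_zero] at h10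
      rw [pow_succ, sq, h10]
  exact (show IsCoprime (8 : ℤ) 3 by norm_num).mul_dvd d8 d3

theorem hz_five (hm : 2 ≤ m) {q : ℕ} {M : Ideal AlgInt} (hM : IsPModular q M) {i : Fin 11} (hi : i = 5 ∨ i = 6)
    (h : ∀ j, 5 ∣ dG (2 ^ m) j ↔ j ≠ i) (hL : SylT X.D 5 (wT X i)) (hS : SylT X.D q (wT X i)) : HZ0 5 M ↥(GF X.F ⊤) := by
  classical
  refine fun χ hχ hd => ?_
  have e1 := Basic.irr_one_eq_charDegree χ.2
  by_cases h0 : classInner χ.1 (RW f (wT X i) 1) = 0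
  · have : Finite (FS X.D (wT X i)) := finite_Fx X.D (wT X i)
    have := Fintype.ofFinite (FS X.D (wT X i))
    obtain ⟨S, hS'⟩ : ∃ S : Finset (Lbl X.D), ∀ c, c ∈ S ↔ c ≠ 1 ∧ Fx X.D (wT X i) c :=
      ⟨(Set.toFinset (FS X.D (wT X i) : Set (Lbl X.D))).erase 1, fun c => by
        rw [Finset.mem_erase, Set.mem_toFinset]; rfl⟩
    have h1 : ∑ c : FS X.D (wT X i), classInner χ.1 (RW f (wT X i) c) = (∑ c ∈ S, mu (RW f (wT X i) c) χ : ℤ) := by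
      rw [← Finset.sum_subtype (insert 1 S) (p := (· ∈ FS X.D (wT X i))) (fun c => ?_)
        fun c => classInner χ.1 (RW f (wT X i) c), Finset.sum_insert fun e => ((hS' _).1 e).1 rfl, h0, zero_add,
        Int.cast_sum]
      · exact Finset.sum_congr rfl fun c _ => mu_spec (hA.gen _ _) χ
      · rw [Finset.mem_insert, hS']
        exact ⟨fun e => e.elim (fun e => e ▸ one_mem _) (·.2), fun e => (em (c = 1)).imp_right fun e' => ⟨e', e⟩⟩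
    have h2 : ∑ c ∈ S, mu (RW f (wT X i) c) χ ≠ 0 := fun e => tot_ne f hM hS hχ (by rw [h1, e, Int.cast_zero])
    have h3 := tot_dvd f Nat.prime_five hL (j := 1) (by rwa [pow_one]) h1
    have h4 := dvd_all hA χ hi S hS'
    have h5 : |∑ c ∈ S, mu (RW f (wT X i) c) χ| ≤ 96 := ((Finset.abs_sum_le_sum_abs _ _).trans
      (Finset.sum_le_sum fun c _ => (Int.le_self_sq _).trans_eq (sq_abs _))).trans ((bes_tor hA χ _ S).trans_eq (by
        rw [card_cw]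
        rcases hi with rfl | rfl <;> rfl))
    rw [abs_le] at h5
    omega
  · by_cases h1 : χ.1 = fun _ => 1
    · rw [h1] at e1
      rw [h1, ← (Nat.cast_inj (R := ℂ)).1 (Nat.cast_one.trans e1)] at hd
      exact absurd hd (by decide)
    by_cases h2 : χ.1 = stF f
    · rw [← (Nat.cast_inj (R := ℂ)).1 (hA.st.2.symm.trans ((congrFun h2 1).symm.trans e1))] at hd
      exact absurd (Nat.prime_five.dvd_of_dvd_pow hd) (by decide)
    obtain ⟨n, t, j, hc, e2, e3⟩ := rowG hA χ h1 h2 h0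
    obtain ⟨a, ha⟩ := card_GF hA
    exact deg_mod hm hc (δ := charDegree χ.1) (by exact_mod_cast Basic.charDegree_pos χ.2) (by rw [e1] at e3; exact_mod_cast e3)
      (by rw [← ha]; exact_mod_cast deg_dvd_card χ) hi h (fun e => h0 (by rw [e2, e, Int.cast_zero])) (by exact_mod_cast hd)

omit hA in
/-- **the row of `²F₄(q)`** -/
theorem fw_tf4 : All (fun S _ => Iso2F4 S) Fw := fun S _ _ _ _ hS l q M hM h => by
  have h1 : l ≠ 3 := fun e => H371.HT.not_ab_iso2F4 hS (e ▸ h.abp)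
  have h2 : q ≠ 3 := fun e => H371.HT.not_ab_iso2F4 hS (e ▸ h.abq)
  obtain ⟨m, hm, k, _, _, _, X, ⟨s⟩⟩ := row_2F4 hS
  have hW : Nat.card X.D.W = 2 ^ 7 * 3 ^ 2 := card_XW X
  refine fw_of X.D s.ov.equiv h ⟨h.p2, h.q2⟩ (hW ▸ not_dvd_W h.pp h.p2 h1 _ _) (hW ▸ not_dvd_W h.pq h.q2 h2 _ _)
    fun w h4 h5 => ?_
  obtain ⟨i, v, hv⟩ := cls X w
  have h6 : ordT X.D w = ordT X.D (wT X i) := by
    have h7 := det_tc (Lie.tc_iff.1 hv) 1
    rw [one_smul, one_smul] at h7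
    rw [ordT, h7, ordT]
  rw [SylT, h6] at h4 h5
  have h7 : ∀ {l : ℕ}, l.Prime → l ∣ Nat.card S → SylT X.D l (wT X i) → (l : ℤ) ∣ oT (2 ^ m) i := fun hl e e' => by
    rw [← ord_wT X, Int.natCast_dvd_natCast, hl.dvd_iff_one_le_factorization (ordT_ne _), ← e',
      ← hl.dvd_iff_one_le_factorization Nat.card_pos.ne', ← Nat.card_congr s.ov.equiv.toEquiv]
    exact e
  refine (lt_or_ge (nC i) (l ^ 2)).elim (fun e => hz_small hM h.pp h4 h5 (card_cw X i ▸ e)) fun e => ?_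
  have h8 := h.pp.five_le_of_ne_two_of_ne_three h.p2 h1
  have h9 : l ≤ 9 := by
    have := (by decide : ∀ i, nC i ≤ 96) i
    nlinarith
  have h10 := h7 h.pp h.dp h4
  have h11 := h7 h.pq h.dq h5
  obtain rfl : l = 5 := by
    have := h.pp
    interval_cases l
    · rfl
    · norm_num at this
    · exact absurd h10 (nd_oT (.inr (.inr rfl)) _ ((by decide : ∀ i, 7 ^ 2 ≤ nC i → i = 5 ∨ i = 6) i e))
    · norm_num at this
    · norm_num at this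
  obtain ⟨a, h12, h13⟩ := dvd_oT (Nat.prime_iff_prime_int.1 h.pp) h10
  obtain ⟨a₀, h14, h15⟩ := five m
  obtain rfl := (h15 a).1 h13
  obtain ⟨hi, h16⟩ := (by decide : ∀ i a, 5 ^ 2 ≤ nC i → 0 < exT i a → a = 2 ∨ a = 3 →
    (i = 5 ∨ i = 6) ∧ ∀ j, exT j a < exG a ↔ j ≠ i) i a e h12 h14
  obtain ⟨f⟩ := nonempty_fr X.D
  refine hz_five (Mts.boxApi f X.D_qs) (hm.lt_of_ne fun e => ?_) hM hi (fun j => (dvd_dG h15 j).trans (h16 j)) h4 h5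
  subst e
  rcases hi with rfl | rfl
  · exact absurd h10 (by decide)
  · exact h.ne ((Nat.prime_dvd_prime_iff_eq h.pq Nat.prime_five).1 (h.pq.dvd_of_dvd_pow (n := 2)
      (Int.natCast_dvd_natCast.1 (h11.trans (by decide))))).symm

end Cfsg.Agent.PQ.Sm
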