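import Cfsg.Agent.LV.Blk.Gen
import Cfsg.Agent.DL.Uni.Cent
import Cfsg.Agent.DL.Uni.Gp
import Cfsg.Agent.H718.Gal

/-!
# PQ, the Parseval bound (helper90)

For a torus `T` of index `n` and an irreducible character `χ` the values of `rst H R T χ` are cyclotomic integers;
`rst_dvd` : they are divisible by every divisor of the degree prime to `n`; `rst_ne` : they do not vanish for `χ` in the principal
block of a prime which does not divide `n`; `sq_le` : the square of such a divisor is at most the order of the relative Weyl group.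
-/

set_option autoImplicit false
set_option linter.unusedSectionVars false

namespace Cfsg.Agent.PQ.Sm

open Cfsg Cfsg.Agent.DL.Uni Cfsg.Agent.Nodes.Reps Cfsg.Agent.Characters.Core Cfsg.Agent.Blocks.Local Cfsg.Agent.Blocks
  Cfsg.Agent.LV.Blk
open scoped ComplexConjugate

variable {Γ : Type} [Group Γ] {p : ℕ} [Fact p.Prime] {H K T : Subgroup Γ} {A : Set (Subgroup Γ)}
  {R : Subgroup Γ → (Γ → ℂ) →ₗ[ℂ] (Γ → ℂ)}

theorem int_avg [Fintype H] {C : Subgroup Γ} (hC : C ≤ H) {φ : Γ → ℂ} (h1 : ∀ x ∈ H, IsIntegral ℤ (φ x))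
    (h2 : ∀ c ∈ C, ∀ x ∈ H, φ (c * x) = φ x) : IsIntegral ℤ ((Nat.card C : ℂ)⁻¹ * ∑ x : H, φ x) := by
  classical
  have := Fintype.ofFinite (H ⧸ C.subgroupOf H)
  have : Finite C := Finite.of_injective _ (Subgroup.inclusion_injective hC)
  rw [← Equiv.sum_comp (Equiv.inv H), ← Finset.sum_fiberwise Finset.univ (QuotientGroup.mk (s := C.subgroupOf H)), Finset.mul_sum]
  refine IsIntegral.sum _ fun q _ => ?_
  have h3 : (Finset.univ.filter fun x : H => (QuotientGroup.mk x : H ⧸ C.subgroupOf H) = q).card = Nat.card C := by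
    rw [← Nat.card_congr (Subgroup.subgroupOfEquivOfLe hC).toEquiv, ← mul_one (Nat.card (C.subgroupOf H)),
      ← Nat.card_unique (α := ({q} : Set _)), ← QuotientGroup.card_preimage_mk, ← Nat.card_eq_finsetCard]
    exact Nat.card_congr (Equiv.subtypeEquivRight fun x => by simp)
  rw [Finset.sum_congr rfl (g := fun _ => φ (q.out⁻¹ : H)) fun x hx => ?_, Finset.sum_const, h3, nsmul_eq_mul,
    inv_mul_cancel_left₀ (card_ne_zero C)]
  · exact h1 _ (q.out⁻¹).2
  · have h4 := QuotientGroup.eq.1 ((Finset.mem_filter.1 hx).2.trans q.out_eq'.symm)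
    rw [← h2 _ h4 _ (q.out⁻¹).2]
    simp

theorem R_dl_int (U : Full p H A R) (hT : T ∈ A) (t : Γ) {g : Γ} (hg : g ∈ H) : IsIntegral ℤ (R T (dl t) g) := by
  classical
  have := U.sys.finH
  have := Fintype.ofFinite H
  obtain ⟨s, hs, u, hu, hJ⟩ := exists_isJ (p := p) hg
  obtain ⟨T', hT', hsT⟩ := U.sys.toral hs hJ.ss
  obtain ⟨C, RC, Z, -⟩ := U.cent T' hT' s ⟨hsT, hs⟩
  have huC := Z.uni u hu hJ.uni hJ.comm.symm
  have := Z.sys.finH
  rw [← hJ.eq, Z.formula_sum hT _ huC hJ.uni]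
  refine int_avg Z.le (φ := fun x => if s ∈ cj x T then dl t (x⁻¹ * s * x) * RC (cj x T) 1 u else 0) (fun x hx => ?_)
    fun c hc x hx => ?_
  · split_ifs with h
    · refine IsIntegral.mul ?_ (gen_int (Z.sys.gen _ ⟨U.sys.conjA x hx T hT, h⟩ 1 isLin_one) ⟨u, huC⟩)
      rw [dl_apply]
      split_ifs
      exacts [isIntegral_one, isIntegral_zero]
    · exact isIntegral_zero
  · have h1 : (c * x)⁻¹ * s * (c * x) = x⁻¹ * s * x := by
      rw [mul_inv_rev, mul_assoc, mul_assoc, ← mul_assoc s, ← Z.cent c hc]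
      group
    by_cases h : s ∈ cj x T
    · rw [if_pos h, if_pos (mem_cj.2 (h1 ▸ mem_cj.1 h)), h1, cj_mul]
      exact congrArg _ (Z.sys.R_conj ⟨U.sys.conjA x hx T hT, h⟩ hc 1 u huC)
    · rw [if_neg h, if_neg fun e => h (mem_cj.2 (h1 ▸ mem_cj.1 e))]

theorem sum_sq [Fintype K] {ι : Type} [Fintype ι] {e : ι → K →* ℂˣ} (he : Function.Injective e) (a : ι → ℤ) :
    ∑ t : K, ‖∑ i, (a i : ℂ) * e i t‖ ^ 2 = Nat.card K * (∑ i, a i ^ 2 : ℤ) := by
  classical
  have h1 := ip_self_eq (H := K) (∑ i, (a i : ℂ) • lin (e i))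
  simp only [ip_sum_left, ip_sum_right, ip_smul_left, ip_smul_right, ip_lin_lin, he.eq_iff, map_intCast, mul_ite, mul_one, mul_zero,
    Finset.sum_ite_eq', Finset.mem_univ, if_true, Finset.sum_apply, Pi.smul_apply, smul_eq_mul, lin_coe] at h1
  have h2 : (Nat.card K : ℝ) ≠ 0 := Nat.cast_ne_zero.2 Nat.card_pos.ne'
  rw [← inv_mul_eq_iff_eq_mul₀ h2]
  refine Complex.ofReal_injective (h1.symm.trans ?_)
  push_cast
  exact Finset.sum_congr rfl fun i _ => (sq _).symm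

/-- a function with integral Fourier coefficients whose values are nonzero multiples of `r` -/
theorem sq_le_sum [Fintype K] [Fintype (K →* ℂˣ)] {a : (K →* ℂˣ) → ℤ} {r : ℕ} (hr : r ≠ 0)
    (h0 : ∀ t : K, ∑ θ, (a θ : ℂ) * θ t ≠ 0) (h1 : ∀ t : K, IsIntegral ℤ ((∑ θ, (a θ : ℂ) * θ t) / r)) :
    (r : ℤ) ^ 2 ≤ ∑ θ, a θ ^ 2 := by
  obtain ⟨ι, _, _, σ, hσ⟩ := H718.exists_galois_avg (Nat.card K) Nat.card_pos.ne'
  have h2 : (0 : ℝ) < r := by positivity
  have h3 : ∀ i, ∑ t : K, ‖σ i ((∑ θ, (a θ : ℂ) * θ t) / r)‖ ^ 2 = Nat.card K * (∑ θ, a θ ^ 2 : ℤ) / r ^ 2 := fun i => by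
    rw [← sum_sq (e := fun θ => (Units.map (σ i : ℂ →* ℂ)).comp θ) (fun θ θ' e => MonoidHom.ext fun t => Units.ext
      ((σ i).injective (congrArg Units.val (DFunLike.congr_fun e t)))), Finset.sum_div]
    refine Finset.sum_congr rfl fun t _ => ?_
    simp only [map_div₀, map_sum, map_mul, map_intCast, map_natCast, norm_div, div_pow, Complex.norm_natCast]
    rfl
  have h4 := Finset.sum_le_sum fun (t : K) (_ : t ∈ Finset.univ) => hσ _ (h1 t) (div_mem (sum_mem fun θ _ => mul_mem (intCast_mem _ _)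
    (H718.mem_Cyc_of_pow (by rw [← Units.val_pow_eq_pow_val, ← map_pow, pow_card_eq_one', map_one, Units.val_one])))
    (natCast_mem _ _)) (div_ne_zero (h0 t) (Nat.cast_ne_zero.2 hr))
  rw [Finset.sum_comm, Finset.sum_congr rfl fun i _ => h3 i, Finset.sum_const, Finset.sum_const, Finset.card_univ, Finset.card_univ,
    nsmul_eq_mul, nsmul_eq_mul, ← Nat.card_eq_fintype_card, mul_comm, mul_div_assoc] at h4
  have h5 := le_of_mul_le_mul_left h4 (Nat.cast_pos.2 Fintype.card_pos)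
  rw [le_mul_iff_one_le_right (Nat.cast_pos.2 Nat.card_pos), one_le_div (by positivity)] at h5
  exact_mod_cast h5

variable [Fintype H] {χ : Γ → ℂ} {n : ℕ}

theorem exists_coef (S : Sys p H A R) (hT : T ∈ A) (hχ : IsGeneralizedCharacter H (res H χ)) [Fintype (↥(T ⊓ H) →* ℂˣ)] :
    ∃ a : (↥(T ⊓ H) →* ℂˣ) → ℤ, (∀ t : ↥(T ⊓ H), rst H R T χ t = ∑ θ, (a θ : ℂ) * θ t) ∧
      ip (T ⊓ H) (rst H R T χ) (rst H R T χ) = (∑ θ, a θ ^ 2 : ℤ) := by
  have := S.finT T
  choose a ha using fun θ : ↥(T ⊓ H) →* ℂˣ => ip_gen_int hχ (S.gen T hT _ (isLin_lin θ))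
  simp only [S.ip_rst hT] at ha
  refine ⟨a, fun t => ?_, ?_⟩
  · rw [fourier (S.comm T hT) (rst H R T χ) t t.2]
    simp only [ha, Finset.sum_apply, Pi.smul_apply, smul_eq_mul, lin_coe]
  · rw [parseval (S.comm T hT)]
    simp only [ha, map_intCast, Int.cast_sum, Int.cast_mul, sq]

/-- Bessel's inequality for one torus -/
theorem bes_rst (S : Sys p H A R) (hT : T ∈ A) (hχ : ip H χ χ = 1) {x : ℝ} (hx : ip (T ⊓ H) (rst H R T χ) (rst H R T χ) = x) :
    x * Nat.card ↥(T ⊓ H) ≤ Nat.card {h : H // cj (h : Γ) T = T} := by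
  classical
  have := S.finT T
  obtain ⟨m, hm⟩ : ∃ m, m = Nat.card {h : H // cj (h : Γ) T = T} := ⟨_, rfl⟩
  have h0 : (0 : ℝ) < m := by
    have : Nonempty {h : H // cj (h : Γ) T = T} := ⟨⟨1, cj_one _⟩⟩
    exact Nat.cast_pos.2 (hm ▸ Nat.card_pos)
  have h1 : ip H (R T (rst H R T χ)) (R T (rst H R T χ)) = (Nat.card ↥(T ⊓ H) : ℂ)⁻¹ * (m * x) := by
    rw [S.orth_sum hT hT, Finset.sum_congr rfl (g := fun h : H => if cj (h : Γ) T = T then (x : ℂ) else 0) fun h _ => ?_,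
      ← Finset.sum_filter, Finset.sum_const, nsmul_eq_mul, hm,
      Nat.subtype_card (Finset.univ.filter fun h : H => cj (h : Γ) T = T) fun _ => by simp]
    refine ite_congr rfl (fun e => (ip_congr (fun _ _ => rfl) fun t _ => ?_).trans hx) fun _ => rfl
    simpa only [e] using S.rst_conj hT h.2 χ t
  obtain ⟨y, h2, h3⟩ := ip_self_nonneg (H := H) (χ - ((Nat.card ↥(T ⊓ H) / m : ℝ) : ℂ) • R T (rst H R T χ))
  simp only [ip_sub_left, ip_sub_right, ip_smul_left, ip_smul_right, hχ, h1, S.ip_rst hT χ, S.ip_rst' hT _ χ, hx,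
    Complex.conj_ofReal] at h3
  have h4 : y = 1 - Nat.card ↥(T ⊓ H) / m * x := Complex.ofReal_injective (by
    have h5 := S.cardT_ne T
    have h6 : (m : ℂ) ≠ 0 := by exact_mod_cast h0.ne'
    rw [← h3]
    push_cast
    field_simp
    ring)
  rw [← hm, ← div_le_one h0]
  calc _ = Nat.card ↥(T ⊓ H) / m * x := by ring
    _ ≤ 1 := by linarith

variable (U : Full p H A R) (hT : T ∈ A) (hχ : IsIrrCharacter H (res H χ)) (hn : Nat.card H = n * Nat.card ↥(T ⊓ H))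
include U hT hχ hn

omit U hT in
theorem rst_om (t : Γ) : n * rst H R T χ t = res H χ 1 * om (res H χ) (res H (R T (dl t))) := by
  rw [om_mul (Basic.irr_one_ne_zero hχ), rst, ip_eq_classInner, hn, Nat.cast_mul, mul_assoc]

theorem rst_ne {q : ℕ} {M : Ideal AlgInt} (hM : IsPModular q M) (hB : (⟨_, hχ⟩ : IrrCharacter H) ∈ principalBlock M H)
    (hq : ¬ q ∣ n) {t : Γ} (ht : t ∈ T ⊓ H) : rst H R T χ t ≠ 0 := fun e => by
  have := isPrime_of_isPModular hM
  have h1 := om_prin hB (isCls_iff.1 (U.sys.isCls_R hT (dl t))) fun g => R_dl_int U hT t g.2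
  have h2 := rst_om (R := R) hχ hn t
  have h3 := U.sys.rst_one hT t ht
  rw [e, mul_zero, eq_comm, mul_eq_zero, or_iff_right (Basic.irr_one_ne_zero hχ)] at h2
  rw [rst, ip_eq_classInner] at h3
  rw [h2, hn, Nat.cast_mul, mul_assoc, show (Nat.card ↥(T ⊓ H) : ℂ) * classInner (fun _ => 1) _ = 1 from h3, mul_one, zero_sub] at h1
  exact hq ((memLocalIdeal_natCast_iff hM n).1 (by simpa using memLocalIdeal_neg h1))

theorem rst_dvd {r : ℕ} (hr : r.Coprime n) (h0 : r ≠ 0) (hd : r ∣ charDegree (res H χ)) {t : Γ} (ht : t ∈ T ⊓ H) :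
    IsIntegral ℤ (rst H R T χ t / r) := by
  have := U.sys.finT T
  have := @Fintype.ofFinite _ (finite_hom (T ⊓ H))
  obtain ⟨a, ha, -⟩ := exists_coef U.sys hT (gen_of_irr hχ)
  obtain ⟨d, hd⟩ := hd
  obtain ⟨x, y, e⟩ := Nat.isCoprime_iff_coprime.2 hr
  have h1 := rst_om (R := R) hχ hn t
  have h2 : (r : ℂ) ≠ 0 := Nat.cast_ne_zero.2 h0
  have h3 : (x * r + y * n : ℂ) = 1 := by exact_mod_cast e
  rw [Basic.irr_one_eq_charDegree hχ, hd, Nat.cast_mul] at h1
  rw [show rst H R T χ t / r = x * rst H R T χ t + y * d * om (res H χ) (res H (R T (dl t))) by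
    rw [div_eq_iff h2]
    linear_combination y * h1 - rst H R T χ t * h3]
  refine ((isIntegral_algebraMap (R := ℤ) (x := x)).mul ?_).add ((isIntegral_algebraMap (R := ℤ) (x := y)).mul
    (isIntegral_algebraMap (R := ℤ) (x := d)) |>.mul (om_int hχ (isCls_iff.1 (U.sys.isCls_R hT _)) fun g => R_dl_int U hT t g.2))
  rw [ha ⟨t, ht⟩]
  refine IsIntegral.sum _ fun θ _ => (isIntegral_algebraMap (R := ℤ) (x := a θ)).mul (IsIntegral.of_pow Nat.card_pos (n := Nat.card ↥(T ⊓ H)) ?_)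
  rw [← Units.val_pow_eq_pow_val, ← map_pow, pow_card_eq_one', map_one, Units.val_one]
  exact isIntegral_one

/-- **The Parseval bound.** -/
theorem sq_le_of_ne (h : ∀ t ∈ T ⊓ H, rst H R T χ t ≠ 0) {r : ℕ} (hr : r.Coprime n) (h0 : r ≠ 0) (hd : r ∣ charDegree (res H χ)) :
    r ^ 2 * Nat.card ↥(T ⊓ H) ≤ Nat.card {h : H // cj (h : Γ) T = T} := by
  have := U.sys.finT T
  have := Fintype.ofFinite ↥(T ⊓ H)
  have := @Fintype.ofFinite _ (finite_hom (T ⊓ H))
  obtain ⟨a, ha, h1⟩ := exists_coef U.sys hT (gen_of_irr hχ)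
  have h2 := sq_le_sum h0 (fun t => ha t ▸ h t t.2) fun t => ha t ▸ rst_dvd U hT hχ hn hr h0 hd t.2
  have h3 := bes_rst U.sys hT (ip_irr_self hχ) (x := (∑ θ, a θ ^ 2 : ℤ)) (h1.trans (Complex.ofReal_intCast _).symm)
  have h4 : ((r : ℝ) ^ 2) ≤ (∑ θ, a θ ^ 2 : ℤ) := by exact_mod_cast h2
  exact_mod_cast (mul_le_mul_of_nonneg_right h4 (Nat.cast_nonneg _)).trans h3

end Cfsg.Agent.PQ.Sm
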